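import Mathlib
import Groth.Agent.FlatSyz5.Dim
import Groth.Agent.RegLoc6.Pd

/-!
# Tor dimension along Tor-independent base change
-/

set_option autoImplicit false
set_option linter.style.haveILetI false
set_option maxHeartbeats 400000

universe u

open CategoryTheory CategoryTheory.Limits TensorProduct

namespace Groth.Agent.DiagSmooth

/-- Tor dimension only depends on the isomorphism class. -/
theorem torDimLE_of_equiv {A : Type u} [CommRing A] {M M' : Type u} [AddCommGroup M] [Module A M]
    [AddCommGroup M'] [Module A M'] (e : M ≃ₗ[A] M') {d : ℕ} (h : DRing.HasTorDimLE A d M) :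
    DRing.HasTorDimLE A d M' := by
  intro N _ _ p hp
  haveI := h N p hp
  exact ModuleCat.isZero_iff_subsingleton.1
    ((ModuleCat.isZero_iff_subsingleton.2 (h N p hp)).of_iso
      (((CategoryTheory.Tor (ModuleCat.{u} A) p).mapIso e.toModuleIso.symm).app (ModuleCat.of A N)))

variable (B P K : Type u) [CommRing B] [CommRing P] [CommRing K] [Algebra B P] [Algebra B K]

/-- Injectivity after base change to a flat algebra over `P ⊗ K`. -/
theorem lTensor_injective (L : Type u) [CommRing L] [Algebra P L] [Algebra (P ⊗[B] K) L]
    [IsScalarTower P (P ⊗[B] K) L] [Module.Flat (P ⊗[B] K) L]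
    {N F : Type u} [AddCommGroup N] [Module P N] [Module B N] [IsScalarTower B P N]
    [AddCommGroup F] [Module P F] [Module B F] [IsScalarTower B P F]
    (f : N →ₗ[P] F) (hf : Function.Injective ((f.restrictScalars B).lTensor K)) :
    Function.Injective (f.lTensor L) := by
  let E := P ⊗[B] K
  let cN := TensorProduct.AlgebraTensorModule.cancelBaseChange B P P N K
  let cF := TensorProduct.AlgebraTensorModule.cancelBaseChange B P P F K
  have hnat : ∀ z : N ⊗[P] E, cF (f.rTensor E z) = (f.restrictScalars B).rTensor K (cN z) := by
    intro z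
    induction z using TensorProduct.induction_on with
    | zero => simp
    | add a b ha hb => simp only [map_add, ha, hb]
    | tmul n w =>
      induction w using TensorProduct.induction_on with
      | zero => simp
      | add a b ha hb => simp only [TensorProduct.tmul_add, map_add, ha, hb]
      | tmul p k =>
        show cF (f n ⊗ₜ[P] (p ⊗ₜ[B] k)) = (f.restrictScalars B).rTensor K (cN (n ⊗ₜ[P] (p ⊗ₜ[B] k)))
        rw [TensorProduct.AlgebraTensorModule.cancelBaseChange_tmul,
          TensorProduct.AlgebraTensorModule.cancelBaseChange_tmul, LinearMap.rTensor_tmul,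
          LinearMap.restrictScalars_apply, map_smul]
  have hrK : Function.Injective ((f.restrictScalars B).rTensor K) := by
    rw [← LinearMap.lTensor_inj_iff_rTensor_inj]
    exact hf
  have hrE : Function.Injective (f.rTensor E) := by
    intro a b hab
    apply cN.injective
    apply hrK
    rw [← hnat, ← hnat, hab]
  have hlE : Function.Injective (f.lTensor E) := (LinearMap.lTensor_inj_iff_rTensor_inj E f).2 hrE
  let g : (E ⊗[P] N) →ₗ[E] (E ⊗[P] F) := f.baseChange E
  have hg : Function.Injective (g.lTensor L) := Module.Flat.lTensor_preserves_injective_linearMap _ hlE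
  let dN := TensorProduct.AlgebraTensorModule.cancelBaseChange P E E L N
  let dF := TensorProduct.AlgebraTensorModule.cancelBaseChange P E E L F
  have hnat' : ∀ z, dF (g.lTensor L z) = f.lTensor L (dN z) := by
    intro z
    induction z using TensorProduct.induction_on with
    | zero => simp
    | add a b ha hb => simp only [map_add, ha, hb]
    | tmul l w =>
      induction w using TensorProduct.induction_on with
      | zero => simp
      | add a b ha hb => simp only [TensorProduct.tmul_add, map_add, ha, hb]
      | tmul e n => simp [dN, dF, g]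
  intro a b hab
  obtain ⟨a, rfl⟩ := dN.surjective a
  obtain ⟨b, rfl⟩ := dN.surjective b
  rw [← hnat', ← hnat'] at hab
  rw [hg (dF.injective hab)]

/-- A short exact sequence with cokernel flat over `B` stays injective after tensoring with `K`. -/
theorem ker_lTensor_injective {F M : Type u} [AddCommGroup F] [Module P F] [Module B F] [IsScalarTower B P F]
    [AddCommGroup M] [Module P M] [Module B M] [IsScalarTower B P M] [Module.Flat B M]
    (q : F →ₗ[P] M) (hq : Function.Surjective q) :
    Function.Injective (((LinearMap.ker q).subtype.restrictScalars B).lTensor K) := by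
  refine LinearMap.lTensor_injective_of_exact_of_flat (q.restrictScalars B) hq
    ((LinearMap.ker q).subtype.restrictScalars B) ?_ ?_ K
  · exact Subtype.val_injective
  · exact fun x => ⟨fun hx => ⟨⟨x, hx⟩, rfl⟩, fun ⟨y, hy⟩ => hy ▸ y.2⟩

/-- The kernel of the base change is the base change of the kernel. -/
theorem exists_ker_equiv (L : Type u) [CommRing L] [Algebra P L] [Algebra (P ⊗[B] K) L]
    [IsScalarTower P (P ⊗[B] K) L] [Module.Flat (P ⊗[B] K) L]
    {F M : Type u} [AddCommGroup F] [Module P F] [Module B F] [IsScalarTower B P F]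
    [AddCommGroup M] [Module P M] [Module B M] [IsScalarTower B P M] [Module.Flat B M]
    (q : F →ₗ[P] M) (hq : Function.Surjective q) :
    Function.Surjective (q.baseChange L) ∧
      Nonempty (L ⊗[P] LinearMap.ker q ≃ₗ[L] LinearMap.ker (q.baseChange L)) := by
  have hq' : Function.Surjective (q.baseChange L) := LinearMap.lTensor_surjective L hq
  have hinj : Function.Injective ((LinearMap.ker q).subtype.lTensor L) :=
    lTensor_injective B P K L (LinearMap.ker q).subtype (ker_lTensor_injective B P K q hq)
  let ι' : L ⊗[P] LinearMap.ker q →ₗ[L] LinearMap.ker (q.baseChange L) :=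
    LinearMap.codRestrict _ ((LinearMap.ker q).subtype.baseChange L) fun z =>
      (lTensor_exact L (LinearMap.exact_subtype_ker_map q) hq).apply_apply_eq_zero z
  have hι' : Function.Bijective ι' := by
    refine ⟨fun a b hab => hinj (congrArg Subtype.val hab), fun z => ?_⟩
    obtain ⟨w, hw⟩ := (lTensor_exact L (LinearMap.exact_subtype_ker_map q) hq z.1).1 z.2
    exact ⟨w, Subtype.ext hw⟩
  exact ⟨hq', ⟨LinearEquiv.ofBijective ι' hι'⟩⟩

/-- Tor dimension along base change to a flat algebra over `P ⊗ K`, for modules flat over `B`. -/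
theorem torDimLE_baseChange [Module.Flat B P] (L : Type u) [CommRing L] [Algebra P L]
    [Algebra (P ⊗[B] K) L] [IsScalarTower P (P ⊗[B] K) L] [Module.Flat (P ⊗[B] K) L] :
    ∀ (d : ℕ) (M : Type u) [AddCommGroup M] [Module P M] [Module B M] [IsScalarTower B P M] [Module.Flat B M],
      DRing.HasTorDimLE P d M → DRing.HasTorDimLE L d (L ⊗[P] M) := by
  intro d
  induction d with
  | zero =>
    intro M _ _ _ _ _ h
    haveI : Module.Flat P M := (H9Misc.DRingTor.torDimLE_zero_iff (ModuleCat.of P M)).1 h
    exact (H9Misc.DRingTor.torDimLE_zero_iff (ModuleCat.of L (L ⊗[P] M))).2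
      (inferInstanceAs (Module.Flat L (L ⊗[P] M)))
  | succ d ih =>
    intro M _ _ _ _ _ h
    let q : (M →₀ P) →ₗ[P] M := Finsupp.linearCombination P id
    have hq : Function.Surjective q := Finsupp.linearCombination_id_surjective P M
    haveI : Module.Flat B (M →₀ P) := Module.Flat.trans B P (M →₀ P)
    haveI : Module.Flat P (FlatSyz5.kerSeq q).X₂ := inferInstanceAs (Module.Flat P (M →₀ P))
    have hN : DRing.HasTorDimLE P d (LinearMap.ker q) :=
      (H9Misc.DRingTor.torDimLE_succ_iff (FlatSyz5.kerSeq_shortExact hq) d).1 h
    haveI : Module.Flat B (LinearMap.ker q) := FlatSyz5.flat_ker B (q.restrictScalars B) hq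
    have hN' := ih (LinearMap.ker q) hN
    obtain ⟨hq', ⟨e⟩⟩ := exists_ker_equiv B P K L q hq
    haveI : Module.Flat L (FlatSyz5.kerSeq (q.baseChange L)).X₂ :=
      inferInstanceAs (Module.Flat L (L ⊗[P] (M →₀ P)))
    exact (H9Misc.DRingTor.torDimLE_succ_iff (FlatSyz5.kerSeq_shortExact hq') d).2
      (torDimLE_of_equiv e hN')

/-- For finite modules over Noetherian rings, tor dimension bounds projective dimension. -/
theorem pdLE_of_torDimLE {R : Type u} [CommRing R] [IsNoetherianRing R] :
    ∀ (d : ℕ) (M : Type u) [AddCommGroup M] [Module R M] [Module.Finite R M],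
      DRing.HasTorDimLE R d M → RegLoc6.PdLE R d M := by
  intro d
  induction d with
  | zero =>
    intro M _ _ _ h
    haveI : Module.Flat R M := (H9Misc.DRingTor.torDimLE_zero_iff (ModuleCat.of R M)).1 h
    haveI : Module.FinitePresentation R M := Module.finitePresentation_of_finite R M
    exact RegLoc6.pdLE_zero_iff.2 Module.Flat.projective_of_finitePresentation
  | succ d ih =>
    intro M _ _ _ h
    obtain ⟨a, π, hπ⟩ := Module.Finite.exists_fin' R M
    haveI : Module.Flat R (FlatSyz5.kerSeq π).X₂ := inferInstanceAs (Module.Flat R (Fin a → R))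
    have hN : DRing.HasTorDimLE R d (LinearMap.ker π) :=
      (H9Misc.DRingTor.torDimLE_succ_iff (FlatSyz5.kerSeq_shortExact hπ) d).1 h
    exact (FlatSyz5.projDimLT_succ_iff hπ d).2 (ih (LinearMap.ker π) hN)

end Groth.Agent.DiagSmooth
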