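import Groth.Agent.DiagSmooth.BaseChange
import Groth.Agent.MorLib.SmoothAlg
import Groth.Agent.CotTLib.SmoothField
import Groth.Agent.RegLoc6.Serre
import Groth.Agent.RegLoc6.RegEtale

/-!
# A flat algebra with perfect diagonal is smooth
-/

set_option autoImplicit false
set_option linter.style.haveILetI false
set_option maxHeartbeats 800000

universe u

open TensorProduct

namespace Groth.Agent.DiagSmooth

/-- A local ring whose residue field is a base change of finite tor dimension is regular. -/
theorem isRegularLocalRing_of_residue {P : Type u} [CommRing P] (L : Type u) [CommRing L] [IsLocalRing L]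
    [IsNoetherianRing L] [Algebra P L] (I : Ideal P) {M : Type u} [AddCommGroup M] [Module P M]
    (eB : (P ⧸ I) ≃ₗ[P] M) (hmax : I.map (algebraMap P L) = IsLocalRing.maximalIdeal L) (d : ℕ)
    (h : DRing.HasTorDimLE L d (L ⊗[P] M)) : IsRegularLocalRing L := by
  let eL : L ⊗[P] M ≃ₗ[L] L ⧸ IsLocalRing.maximalIdeal L :=
    ((TensorProduct.AlgebraTensorModule.congr (LinearEquiv.refl L L) eB.symm).trans
      (Algebra.TensorProduct.quotIdealMapEquivTensorQuot L I).symm.toLinearEquiv).trans
      (Submodule.quotEquivOfEq _ _ hmax)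
  exact RegLoc6.isRegularLocalRing_of_pdLE (pdLE_of_torDimLE d _ (torDimLE_of_equiv eL h))

variable {A B : Type u} [CommRing A] [CommRing B] [Algebra A B] [Module.Flat A B]
  [Algebra (B ⊗[A] B) B] (K : Type u) [Field K] [Algebra A K] [Algebra B K] [IsScalarTower A B K]

/-- The point of `(B ⊗ B) ⊗ K` defined by `y : B → K`. -/
noncomputable def eps (hmul : ∀ x y : B, algebraMap (B ⊗[A] B) B (x ⊗ₜ[A] y) = x * y) :
    (B ⊗[A] B) ⊗[B] K →ₐ[B] K :=
  Algebra.TensorProduct.productMap
    { (algebraMap B K).comp (algebraMap (B ⊗[A] B) B) with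
      commutes' := fun b => by
        show algebraMap B K (algebraMap (B ⊗[A] B) B (algebraMap B (B ⊗[A] B) b)) = algebraMap B K b
        rw [Algebra.TensorProduct.algebraMap_apply, Algebra.algebraMap_self, RingHom.id_apply, hmul, mul_one] }
    (AlgHom.id B K)

theorem eps_tmul (hmul : ∀ x y : B, algebraMap (B ⊗[A] B) B (x ⊗ₜ[A] y) = x * y) (p : B ⊗[A] B) (k : K) :
    eps K hmul (p ⊗ₜ[B] k) = algebraMap B K (algebraMap (B ⊗[A] B) B p) * k :=
  Algebra.TensorProduct.productMap_apply_tmul _ _ p k

/-- The local ring of `(B ⊗ B) ⊗ K` at the point is regular. -/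
theorem isRegularLocalRing_eps (hmul : ∀ x y : B, algebraMap (B ⊗[A] B) B (x ⊗ₜ[A] y) = x * y)
    (h : DRing.HasFiniteTorDim (B ⊗[A] B) B) (q : Ideal ((B ⊗[A] B) ⊗[B] K)) [q.IsPrime]
    (hq : q = RingHom.ker (eps K hmul).toRingHom) [IsNoetherianRing (Localization.AtPrime q)] :
    IsRegularLocalRing (Localization.AtPrime q) := by
  let P := B ⊗[A] B
  let E := P ⊗[B] K
  let L := Localization.AtPrime q
  haveI : IsScalarTower B P B := IsScalarTower.of_algebraMap_eq fun b => by
    rw [Algebra.TensorProduct.algebraMap_apply, Algebra.algebraMap_self, RingHom.id_apply, hmul, mul_one]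
  obtain ⟨d, hd⟩ := h
  have hd' := torDimLE_baseChange B P K L d B hd
  haveI : Module.Flat E L := IsLocalization.flat L q.primeCompl
  -- `L ⊗ B` is the residue field
  have hsurj : Function.Surjective (algebraMap P B) := fun b => ⟨b ⊗ₜ[A] 1, by rw [hmul, mul_one]⟩
  let I : Ideal P := RingHom.ker (algebraMap P B)
  let eB : (P ⧸ I) ≃ₗ[P] B :=
    (Ideal.quotientKerAlgEquivOfSurjective (f := Algebra.ofId P B) hsurj).toLinearEquiv
  have hIq : I.map (algebraMap P E) = q := by
    refine le_antisymm ?_ fun z hz => ?_
    · rw [Ideal.map_le_iff_le_comap, hq]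
      intro p hp
      show eps K hmul (algebraMap P E p) = 0
      rw [Algebra.TensorProduct.algebraMap_apply, Algebra.algebraMap_self, RingHom.id_apply, eps_tmul,
        RingHom.mem_ker.1 hp, map_zero, zero_mul]
    · have hmod : ∀ z : E, z - (1 : P) ⊗ₜ[B] eps K hmul z ∈ I.map (algebraMap P E) := by
        intro z
        induction z using TensorProduct.induction_on with
        | zero => simp
        | add a b ha hb =>
          rw [map_add, TensorProduct.tmul_add, add_sub_add_comm]
          exact add_mem ha hb
        | tmul p k =>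
          have h1 : (1 : P) ⊗ₜ[B] eps K hmul (p ⊗ₜ[B] k) = algebraMap B P (algebraMap P B p) ⊗ₜ[B] k := by
            rw [eps_tmul, ← Algebra.smul_def, ← TensorProduct.smul_tmul, Algebra.smul_def (algebraMap P B p) (1 : P),
              mul_one]
          rw [h1, ← TensorProduct.sub_tmul]
          have h2 : p - algebraMap B P (algebraMap P B p) ∈ I := by
            rw [RingHom.mem_ker, map_sub, ← IsScalarTower.algebraMap_apply B P B, Algebra.algebraMap_self,
              RingHom.id_apply, sub_self]
          have h3 : (p - algebraMap B P (algebraMap P B p)) ⊗ₜ[B] k =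
              algebraMap P E (p - algebraMap B P (algebraMap P B p)) * ((1 : P) ⊗ₜ[B] k) := by
            show _ = ((p - algebraMap B P (algebraMap P B p)) ⊗ₜ[B] (1 : K)) * ((1 : P) ⊗ₜ[B] k)
            rw [Algebra.TensorProduct.tmul_mul_tmul, mul_one, one_mul]
          rw [h3]
          exact Ideal.mul_mem_right _ _ (Ideal.mem_map_of_mem _ h2)
      have := hmod z
      rw [show eps K hmul z = 0 from RingHom.mem_ker.1 (hq ▸ hz), TensorProduct.tmul_zero, sub_zero] at this
      exact this
  have hmax : I.map (algebraMap P L) = IsLocalRing.maximalIdeal L := by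
    rw [IsScalarTower.algebraMap_eq P E L, ← Ideal.map_map, hIq, Localization.AtPrime.map_eq_maximalIdeal]
  exact isRegularLocalRing_of_residue L I eB hmax d hd'

/-- The comparison of points: `K ⊗ C` and `(B ⊗ B) ⊗ K`, for `B` a localisation of `C`. -/
theorem isRegularLocalRing_of_localization {C : Type u} [CommRing C] [Algebra A C] [IsNoetherianRing A]
    [Algebra.FiniteType A C] [Algebra C B] [IsScalarTower A C B] (M : Submonoid C) [IsLocalization M B]
    [Algebra C K] [IsScalarTower C B K]
    (hmul : ∀ x y : B, algebraMap (B ⊗[A] B) B (x ⊗ₜ[A] y) = x * y)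
    (h : DRing.HasFiniteTorDim (B ⊗[A] B) B) (y : K ⊗[A] C →+* K)
    (hy : ∀ (k : K) (c : C), y (k ⊗ₜ[A] c) = k * algebraMap C K c)
    (q : Ideal (K ⊗[A] C)) [q.IsPrime] (hq : q = RingHom.ker y) :
    IsRegularLocalRing (Localization.AtPrime q) := by
  haveI : IsScalarTower A C K := IsScalarTower.of_algebraMap_eq fun a => by
    rw [IsScalarTower.algebraMap_apply A B K, IsScalarTower.algebraMap_apply A C B,
      ← IsScalarTower.algebraMap_apply C B K]
  let FC := C ⊗[A] K
  let FB := B ⊗[A] K
  let g : FC →ₐ[C] FB := Algebra.TensorProduct.map (Algebra.ofId C B) (AlgHom.id A K)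
  letI : Algebra FC FB := g.toRingHom.toAlgebra
  haveI : IsScalarTower C FC FB := IsScalarTower.of_algebraMap_eq fun c => (g.commutes c).symm
  haveI hloc : IsLocalization (Algebra.algebraMapSubmonoid FC M) FB := by
    refine isLocalizedModule_iff_isLocalization.mp
      ((isLocalizedModule_iff_isBaseChange M B (IsScalarTower.toAlgHom C FC FB).toLinearMap).mpr ?_)
    refine IsBaseChange.of_equiv (TensorProduct.AlgebraTensorModule.cancelBaseChange A C B B K) fun z => ?_
    induction z using TensorProduct.induction_on with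
    | zero => simp
    | add a b ha hb => rw [TensorProduct.tmul_add, map_add, ha, hb, map_add]
    | tmul c k =>
      rw [TensorProduct.AlgebraTensorModule.cancelBaseChange_tmul]
      show (c • (1 : B)) ⊗ₜ[A] k = g (c ⊗ₜ[A] k)
      rw [Algebra.TensorProduct.map_tmul, Algebra.smul_def, mul_one]
      rfl
  -- the points
  let c : FC ≃+* K ⊗[A] C := (Algebra.TensorProduct.comm A C K).toRingEquiv
  let yB : FB →+* K :=
    (Algebra.TensorProduct.productMap (IsScalarTower.toAlgHom A B K) (AlgHom.id A K)).toRingHom
  have hyB : ∀ (b : B) (k : K), yB (b ⊗ₜ[A] k) = algebraMap B K b * k := fun b k =>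
    Algebra.TensorProduct.productMap_apply_tmul _ _ b k
  let qB := RingHom.ker yB
  haveI : qB.IsPrime := RingHom.ker_isPrime yB
  haveI : IsNoetherianRing FC :=
    haveI : IsNoetherianRing (K ⊗[A] C) := Algebra.FiniteType.isNoetherianRing K _
    isNoetherianRing_of_ringEquiv _ c.symm
  haveI : IsNoetherianRing FB := IsLocalization.isNoetherianRing (Algebra.algebraMapSubmonoid FC M) FB ‹_›
  -- transport from `(B ⊗ B) ⊗ K`
  let E := (B ⊗[A] B) ⊗[B] K
  let e : E ≃+* FB :=
    (Algebra.TensorProduct.comm B (B ⊗[A] B) K).toRingEquiv.trans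
      ((Algebra.TensorProduct.cancelBaseChange A B K K B).toRingEquiv.trans
        (Algebra.TensorProduct.comm A K B).toRingEquiv)
  have he : ∀ z : E, yB (e z) = eps K hmul z := by
    intro z
    induction z using TensorProduct.induction_on with
    | zero => simp
    | add a b ha hb => rw [map_add, map_add, map_add, ha, hb]
    | tmul p k =>
      induction p using TensorProduct.induction_on with
      | zero => simp
      | add a b ha hb => simp only [TensorProduct.add_tmul, map_add, ha, hb]
      | tmul b₁ b₂ =>
        rw [eps_tmul, hmul]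
        show yB ((Algebra.TensorProduct.comm A K B)
          ((Algebra.TensorProduct.cancelBaseChange A B K K B) (k ⊗ₜ[B] (b₁ ⊗ₜ[A] b₂)))) = _
        rw [Algebra.TensorProduct.cancelBaseChange_tmul, Algebra.TensorProduct.comm_tmul, hyB,
          map_mul, Algebra.smul_def]
        ring
  let qE := RingHom.ker (eps K hmul).toRingHom
  haveI : qE.IsPrime := RingHom.ker_isPrime _
  have hqe : qB.comap e.toRingHom = qE := by
    ext z
    show yB (e z) = 0 ↔ eps K hmul z = 0
    rw [he]
  haveI : IsNoetherianRing E := isNoetherianRing_of_ringEquiv _ e.symm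
  haveI : IsNoetherianRing (Localization.AtPrime qE) :=
    IsLocalization.isNoetherianRing qE.primeCompl _ inferInstance
  have hregE := isRegularLocalRing_eps K hmul h qE rfl
  haveI hregB : IsRegularLocalRing (Localization.AtPrime qB) :=
    haveI := hregE
    IsRegularLocalRing.of_ringEquiv (R := Localization.AtPrime qE) (IsLocalization.ringEquivOfRingEquiv (M := qE.primeCompl)
      (T := qB.primeCompl) (Localization.AtPrime qE) (Localization.AtPrime qB) e (by
        ext z
        obtain ⟨w, rfl⟩ := e.surjective z
        simp only [Submonoid.mem_map, Ideal.mem_primeCompl_iff]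
        refine ⟨fun ⟨v, hv, hvw⟩ => ?_, fun hw => ⟨w, ?_, rfl⟩⟩
        · obtain rfl : v = w := e.injective hvw
          rwa [← hqe] at hv
        · rwa [← hqe]))
  -- to `C ⊗ K`
  have hregC := (RegLoc6.regular_iff_localization (Algebra.algebraMapSubmonoid FC M) FB qB).1 hregB
  let qC := qB.comap (algebraMap FC FB)
  have hqc : q.comap c.toRingHom = qC := by
    ext z
    rw [hq]
    show y (c z) = 0 ↔ yB (g z) = 0
    suffices y (c z) = yB (g z) by rw [this]
    induction z using TensorProduct.induction_on with
    | zero => simp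
    | add a b ha hb => rw [map_add, map_add, map_add, map_add, ha, hb]
    | tmul b k =>
      show y ((Algebra.TensorProduct.comm A C K) (b ⊗ₜ[A] k)) = _
      rw [Algebra.TensorProduct.comm_tmul, hy, Algebra.TensorProduct.map_tmul, hyB, AlgHom.id_apply,
        mul_comm, Algebra.ofId_apply, ← IsScalarTower.algebraMap_apply C B K]
  haveI := hregC
  exact IsRegularLocalRing.of_ringEquiv (R := Localization.AtPrime qC) (IsLocalization.ringEquivOfRingEquiv (M := qC.primeCompl)
    (T := q.primeCompl) (Localization.AtPrime qC) (Localization.AtPrime q) c (by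
      ext z
      obtain ⟨w, rfl⟩ := c.surjective z
      simp only [Submonoid.mem_map, Ideal.mem_primeCompl_iff]
      refine ⟨fun ⟨v, hv, hvw⟩ => ?_, fun hw => ⟨w, ?_, rfl⟩⟩
      · obtain rfl : v = w := c.injective hvw
        rwa [← hqc] at hv
      · rwa [← hqc]))

/-- Smoothness at a point of a finite type algebra whose localisation is flat with perfect diagonal. -/
theorem isSmoothAt_of_localization {C : Type u} [CommRing C] [Algebra A C] [IsNoetherianRing A]
    [Algebra.FiniteType A C] [Algebra C B] [IsScalarTower A C B] (M : Submonoid C) [IsLocalization M B]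
    (hmul : ∀ x y : B, algebraMap (B ⊗[A] B) B (x ⊗ₜ[A] y) = x * y)
    (h : DRing.HasFiniteTorDim (B ⊗[A] B) B) (q : Ideal C) [q.IsPrime]
    (hqM : Disjoint (M : Set C) (q : Set C)) : Algebra.IsSmoothAt A q := by
  let p : Ideal A := q.under A
  let qB : Ideal B := q.map (algebraMap C B)
  haveI : qB.IsPrime := IsLocalization.isPrime_of_isPrime_disjoint M B q ‹_› hqM
  have hqB : qB.comap (algebraMap C B) = q := IsLocalization.under_map_of_isPrime_disjoint M B ‹_› hqM
  let K := AlgebraicClosure qB.ResidueField
  haveI : IsScalarTower C B K := .to₁₂₄ C B qB.ResidueField K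
  haveI : IsScalarTower A B K := .to₁₂₄ A B qB.ResidueField K
  haveI : IsScalarTower A C K := .to₁₂₄ A C qB.ResidueField K
  have hker : ∀ c : C, algebraMap C K c = 0 ↔ c ∈ q := fun c => by
    rw [IsScalarTower.algebraMap_apply C B K, IsScalarTower.algebraMap_apply B qB.ResidueField K]
    rw [map_eq_zero_iff _ (algebraMap qB.ResidueField K).injective, Ideal.algebraMap_residueField_eq_zero,
      ← Ideal.mem_comap, hqB]
  let ψ : p.ResidueField →+* K := Ideal.ResidueField.lift p (algebraMap A K)
    (fun a ha => RingHom.mem_ker.2 ((IsScalarTower.algebraMap_apply A C K a).trans ((hker _).2 ha)))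
    (fun a ha => IsUnit.mk0 _ fun h0 => ha ((hker _).1 ((IsScalarTower.algebraMap_apply A C K a).symm.trans h0)))
  letI : Algebra p.ResidueField K := ψ.toAlgebra
  haveI : IsScalarTower A p.ResidueField K :=
    IsScalarTower.of_algebraMap_eq fun a => (Ideal.ResidueField.lift_algebraMap _ _ _ _ a).symm
  let y : K ⊗[A] C →ₐ[K] K := Algebra.TensorProduct.lift (AlgHom.id K K)
    (IsScalarTower.toAlgHom A C K) fun _ _ => Commute.all _ _
  let q' := RingHom.ker y.toRingHom
  haveI : q'.IsMaximal := RingHom.ker_isMaximal_of_surjective _ fun k => ⟨k ⊗ₜ[A] 1, by simp [y]⟩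
  have hreg : IsRegularLocalRing (Localization.AtPrime q') :=
    isRegularLocalRing_of_localization K M hmul h y.toRingHom (fun k c => by simp [y]) q' rfl
  haveI : Algebra.FinitePresentation A C := Algebra.FinitePresentation.of_finiteType.1 inferInstance
  have hsm : Algebra.IsSmoothAt K q' := CotTLib.isSmoothAt_of_isRegularLocalRing q' hreg
  letI := Algebra.TensorProduct.rightAlgebra (R := A) (A := K) (B := C)
  refine MorLib.SmoothAlg.isSmoothAt_of_fiber_field p q ?_ K q' ?_ hsm
  · let := Localization.AtPrime.algebraOfLiesOver p q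
    let Sq := Localization.AtPrime q
    let f : B →ₐ[C] Sq := IsLocalization.liftAlgHom (M := M) (f := Algebra.ofId C Sq) fun m =>
      IsLocalization.map_units Sq (⟨m, fun hm => Set.disjoint_left.1 hqM m.2 hm⟩ : q.primeCompl)
    letI := f.toRingHom.toAlgebra
    haveI : IsScalarTower C B Sq := IsScalarTower.of_algebraMap_eq fun c => (f.commutes c).symm
    haveI : IsScalarTower A B Sq := .to₁₃₄ A C B Sq
    haveI : IsLocalization (Algebra.algebraMapSubmonoid B q.primeCompl) Sq :=
      .isLocalization_of_submonoid_le _ _ M q.primeCompl fun m hm => fun hmq => Set.disjoint_left.1 hqM hm hmq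
    haveI : Module.Flat B Sq := IsLocalization.flat Sq (Algebra.algebraMapSubmonoid B q.primeCompl)
    exact (Module.flat_iff_of_isLocalization (Localization.AtPrime p) p.primeCompl Sq).mpr
      (Module.Flat.trans A B Sq)
  · ext c
    show y ((1 : K) ⊗ₜ[A] c) = 0 ↔ _
    simp [y, hker]

end Groth.Agent.DiagSmooth
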